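import Mathlib
import Cfsg.Agent.S3742

/-!
A group of order 48 with a self-centralising normal quaternion subgroup of order 8 and an
involution outside it is unique up to isomorphism; so it is `GL(2, 3)`.
-/

set_option autoImplicit false

namespace CfsgLib.SylowTwoMeet

open Subgroup

abbrev S4 := Equiv.Perm (Fin 4)

set_option maxRecDepth 10000 in
theorem conj_many : ∀ x : S4, x ≠ 1 → (Equiv.Perm.sign x ≠ 1 ∨ x * x ≠ 1) →
    4 ≤ (Finset.univ.image fun p : S4 => p * x * p⁻¹).card := by decide +kernel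

set_option maxRecDepth 10000 in
theorem conj_double : ∀ x A : S4, x ≠ 1 → A ≠ 1 → Equiv.Perm.sign x = 1 → x * x = 1 →
    Equiv.Perm.sign A = 1 → A * A = 1 → ∃ p : S4, p * x * p⁻¹ = A := by decide +kernel

def B0 : S4 := Equiv.swap 1 2

def A0 : S4 := Equiv.swap 1 2 * Equiv.swap 2 3

set_option maxRecDepth 10000 in
theorem odd_conj : ∀ A : S4, A * A = 1 → Equiv.Perm.sign A ≠ 1 → ∃ p : S4, p * A * p⁻¹ = B0 := by
  decide +kernel

theorem std_rel : A0 * A0 * A0 = 1 ∧ B0 * B0 = 1 ∧ B0 * A0 * B0 = A0 * A0 ∧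
    Equiv.Perm.sign A0 = 1 ∧ Equiv.Perm.sign B0 = -1 ∧ A0 ≠ 1 := by decide +kernel

theorem four_normal (N : Subgroup S4) [N.Normal] (h : Nat.card N = 4) :
    ∀ x ∈ N, Equiv.Perm.sign x = 1 ∧ x * x = 1 := by
  classical
  intro x hx
  by_contra hbad
  rw [not_and_or] at hbad
  have hx1 : x ≠ 1 := by rintro rfl; simp at hbad
  have h4 := conj_many x hx1 hbad
  set C := Finset.univ.image fun p : S4 => p * x * p⁻¹
  have hC : insert 1 C ⊆ (N : Set S4).toFinset := by
    intro y hy
    rw [Set.mem_toFinset]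
    rcases Finset.mem_insert.1 hy with rfl | hy
    · exact N.one_mem
    · obtain ⟨p, -, rfl⟩ := Finset.mem_image.1 hy
      exact ‹N.Normal›.conj_mem x hx p
  have h1 : (1 : S4) ∉ C := by
    intro hy
    obtain ⟨p, -, hp⟩ := Finset.mem_image.1 hy
    exact hx1 (conj_eq_one_iff.1 hp)
  have := Finset.card_le_card hC
  rw [Finset.card_insert_of_notMem h1, Set.toFinset_card, ← Nat.card_eq_fintype_card] at this
  have h' : Nat.card (N : Set S4) = 4 := h
  omega

section

variable {G : Type*} [Group G]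

/-- The map of the dihedral group of order six given by an involution inverting an element. -/
def dihHom (ρ t : G) (hρ : ρ ^ 3 = 1) (ht : t * t = 1) (hinv : t * ρ * t = ρ⁻¹) :
    DihedralGroup 3 →* G :=
  MonoidHom.mk'
    (fun x => match x with
      | .r i => ρ ^ i.val
      | .sr i => t * ρ ^ i.val)
    (fun x y => by
      have hadd : ∀ i j : ZMod 3, ρ ^ (i + j).val = ρ ^ i.val * ρ ^ j.val := fun i j => by
        rw [ZMod.val_add, ← pow_add]
        exact (pow_eq_pow_mod _ hρ).symm
      have hneg : ∀ i : ZMod 3, ρ ^ (-i).val = (ρ ^ i.val)⁻¹ := fun i => by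
        refine eq_inv_of_mul_eq_one_left ?_
        rw [← hadd, neg_add_cancel, ZMod.val_zero, pow_zero]
      have htt : t⁻¹ = t := inv_eq_of_mul_eq_one_left ht
      have hconj : ∀ k : ℕ, t * ρ ^ k * t = (ρ ^ k)⁻¹ := fun k => by
        have h := (conj_pow (i := k) (a := t) (b := ρ)).symm
        rw [htt] at h
        rw [h, hinv, inv_pow]
      cases x <;> cases y
      · exact hadd _ _
      · rename_i i j
        show t * ρ ^ (j - i).val = ρ ^ i.val * (t * ρ ^ j.val)
        rw [sub_eq_neg_add, hadd, hneg, ← hconj, ← mul_assoc, ← mul_assoc, ← mul_assoc, ht,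
          one_mul, mul_assoc]
      · rename_i i j
        show t * ρ ^ (i + j).val = t * ρ ^ i.val * ρ ^ j.val
        rw [hadd, mul_assoc]
      · rename_i i j
        show ρ ^ (j - i).val = t * ρ ^ i.val * (t * ρ ^ j.val)
        rw [sub_eq_neg_add, hadd, hneg, ← hconj, mul_assoc (t * ρ ^ i.val) t])

theorem dihHom_r (ρ t : G) (hρ : ρ ^ 3 = 1) (ht : t * t = 1) (hinv : t * ρ * t = ρ⁻¹) (i : ZMod 3) :
    dihHom ρ t hρ ht hinv (.r i) = ρ ^ i.val := rfl

theorem dihHom_sr (ρ t : G) (hρ : ρ ^ 3 = 1) (ht : t * t = 1) (hinv : t * ρ * t = ρ⁻¹) (i : ZMod 3) :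
    dihHom ρ t hρ ht hinv (.sr i) = t * ρ ^ i.val := rfl

end

theorem B0_inv : B0 * A0 * B0 = A0⁻¹ := by decide +kernel

/-- The dihedral group of order six as the stabiliser of a point in `S₄`. -/
def dStd : DihedralGroup 3 →* S4 :=
  dihHom A0 B0 (by rw [pow_three']; exact std_rel.1) std_rel.2.1 B0_inv

theorem dStd_sr_odd (i : ZMod 3) : Equiv.Perm.sign (dStd (.sr i)) = -1 := by
  rw [dStd, dihHom_sr, map_mul, map_pow, std_rel.2.2.2.1, std_rel.2.2.2.2.1, one_pow, mul_one]

/-- A fixed identification. -/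
noncomputable def σQ : MulAut (QuaternionGroup 2) ≃* S4 := Cfsg.Agent.S3742.result.some

/-- The model. -/
abbrev Model := QuaternionGroup 2 ⋊[(σQ.symm.toMonoidHom.comp dStd)] DihedralGroup 3

theorem nonempty_model_equiv {Q : Type*} [Group Q] [Finite Q] (R : Subgroup Q) [R.Normal]
    (e : R ≃* QuaternionGroup 2) (hQ : Nat.card Q = 48)
    (hC : Nat.card (centralizer (R : Set Q)) = 2) {t : Q} (ht : t * t = 1) (htR : t ∉ R) :
    Nonempty (Model ≃* Q) := by
  classical
  let c : Q →* MulAut R := MulAut.conjNormal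
  let η : Q →* S4 := (σQ.toMonoidHom.comp (MulAut.congr e).toMonoidHom).comp c
  have hηk : η.ker = centralizer (R : Set Q) := by
    ext x
    rw [MonoidHom.mem_ker, mem_centralizer_iff]
    simp only [η, MonoidHom.coe_comp, Function.comp_apply, MulEquiv.coe_toMonoidHom, map_eq_one_iff σQ
      σQ.injective, map_eq_one_iff (MulAut.congr e) (MulAut.congr e).injective]
    constructor
    · intro hx y hy
      have h1 := congrArg Subtype.val (MulEquiv.congr_fun hx ⟨y, hy⟩)
      change x * y * x⁻¹ = y at h1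
      exact (mul_inv_eq_iff_eq_mul.1 h1).symm
    · intro hx
      refine MulEquiv.ext fun y => Subtype.ext ?_
      show x * y * x⁻¹ = y
      rw [← hx y y.2, mul_inv_cancel_right]
  have hηsurj : Function.Surjective η := by
    rw [← MonoidHom.range_eq_top]
    refine eq_top_of_card_eq _ ?_
    have h1 := η.ker.card_mul_index
    rw [index_ker, hηk, hC, hQ] at h1
    rw [Nat.card_perm, Nat.card_fin]
    show Nat.card η.range = 24
    omega
  have hR8 : Nat.card R = 8 := by
    rw [Nat.card_congr e.toEquiv, Nat.card_eq_fintype_card, QuaternionGroup.card]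
  have hkR : η.ker ≤ R := by
    rw [hηk]
    -- the centre of `R` is all of the centraliser
    have h1 : (center R).map R.subtype ≤ centralizer (R : Set Q) := by
      rintro _ ⟨x, hx, rfl⟩
      rw [mem_centralizer_iff]
      exact fun y hy => congrArg Subtype.val (mem_center_iff.1 hx ⟨y, hy⟩)
    have h2 : Nat.card ((center R).map R.subtype) = 2 := by
      rw [card_map_of_injective R.subtype_injective, Nat.card_congr (centerCongr e).toEquiv,
        Nat.card_eq_fintype_card]
      decide +kernel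
    rw [← eq_of_le_of_card_ge h1 (by rw [h2, hC])]
    exact map_subtype_le _
  haveI hNn : (R.map η).Normal := Normal.map inferInstance η hηsurj
  have hN : Nat.card (R.map η) = 4 := by
    have h1 : (η.domRestrict R).ker = η.ker.subgroupOf R := MonoidHom.ker_domRestrict (K := R) η
    have h2 := (η.domRestrict R).ker.card_mul_index
    rw [index_ker, MonoidHom.domRestrict_range, h1, Nat.card_congr (subgroupOfEquivOfLe hkR).toEquiv, hηk,
      hC, hR8] at h2
    omega
  have heven := four_normal (R.map η) hN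
  -- the image of `t` is a transposition
  have htodd : Equiv.Perm.sign (η t) ≠ 1 := by
    intro h1
    have h2 : η t * η t = 1 := by rw [← map_mul, ht, map_one]
    have h3 : η t ∈ R.map η := by
      by_cases hA : η t = 1
      · rw [hA]; exact one_mem _
      obtain ⟨⟨x, hx⟩, hx1⟩ : ∃ x : R.map η, x ≠ 1 := by
        haveI : Nontrivial (R.map η) := Finite.one_lt_card_iff_nontrivial.1 (by omega)
        exact exists_ne 1
      obtain ⟨hs, hsq⟩ := heven x hx
      obtain ⟨p, hp⟩ := conj_double x (η t) (fun e' => hx1 (Subtype.ext e')) hA hs hsq h1 h2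
      exact hp ▸ hNn.conj_mem x hx p
    obtain ⟨r, hr, hrt⟩ := h3
    refine htR ?_
    have h4 : r⁻¹ * t ∈ R := hkR (by rw [MonoidHom.mem_ker, map_mul, map_inv, hrt, inv_mul_cancel])
    simpa using R.mul_mem hr h4
  obtain ⟨π, hπ⟩ := odd_conj (η t) (by rw [← map_mul, ht, map_one]) htodd
  -- adapt the identification
  let e' : R ≃* QuaternionGroup 2 := e.trans (σQ.symm π)
  let η' : Q →* S4 := (σQ.toMonoidHom.comp (MulAut.congr e').toMonoidHom).comp c
  have hcongr : ∀ k : MulAut R, MulAut.congr e' k = σQ.symm π * MulAut.congr e k * (σQ.symm π)⁻¹ :=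
    fun k => MulEquiv.ext fun x => rfl
  have hη' : ∀ x, η' x = π * η x * π⁻¹ := fun x => by
    show σQ (MulAut.congr e' (c x)) = π * σQ (MulAut.congr e (c x)) * π⁻¹
    rw [hcongr, map_mul, map_mul, map_inv, MulEquiv.apply_symm_apply]
  have hη't : η' t = B0 := by rw [hη', hπ]
  obtain ⟨r, hr⟩ := hηsurj (π⁻¹ * A0 * π)
  have hη'r : η' r = A0 := by rw [hη', hr]; group
  have hcube : A0 ^ 3 = 1 := by rw [pow_three']; exact std_rel.1
  have hker' : ∀ x, η' x = 1 → x * x = 1 ∧ x ∈ R := fun x hx => by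
    rw [hη', conj_eq_one_iff, ← MonoidHom.mem_ker] at hx
    refine ⟨?_, hkR hx⟩
    have h2 := pow_card_eq_one' (G := centralizer (R : Set Q)) (x := ⟨x, hηk ▸ hx⟩)
    rw [hC, pow_two] at h2
    exact congrArg Subtype.val h2
  set ρ := r ^ 4 with hρdef
  have hρ3 : ρ ^ 3 = 1 := by
    have h1 := (hker' (r ^ 3) (by rw [map_pow, hη'r, hcube])).1
    rw [hρdef, ← pow_mul, show 4 * 3 = 3 * 2 + 3 * 2 by rfl, pow_add, pow_mul, pow_two, h1, one_mul]
  have hη'ρ : η' ρ = A0 := by rw [map_pow, hη'r, pow_succ, hcube, one_mul]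
  have hcommZ : ∀ x z : Q, η' z = 1 → Commute x z := by
    intro x z hz
    have hz1 : z ∈ centralizer (R : Set Q) := by
      rw [hη', conj_eq_one_iff, ← MonoidHom.mem_ker, hηk] at hz; exact hz
    have hn : (centralizer (R : Set Q)).Normal := hηk ▸ MonoidHom.normal_ker η
    by_cases hz0 : z = 1
    · subst hz0; exact Commute.one_right x
    have h1 : x * z * x⁻¹ ∈ centralizer (R : Set Q) := hn.conj_mem z hz1 x
    have huniq : ∀ u : centralizer (R : Set Q), u ≠ 1 → u = ⟨z, hz1⟩ := by
      obtain ⟨a, b, -, huniv⟩ := Nat.card_eq_two_iff.1 hC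
      intro u hu
      have e1 : ∀ u : centralizer (R : Set Q), u = a ∨ u = b := fun u => by
        have : u ∈ ({a, b} : Set (centralizer (R : Set Q))) := huniv ▸ Set.mem_univ u
        simpa using this
      have hne : (⟨z, hz1⟩ : centralizer (R : Set Q)) ≠ 1 := fun e => hz0 (congrArg Subtype.val e)
      rcases e1 u with rfl | rfl <;> rcases e1 1 with h | h <;> rcases e1 ⟨z, hz1⟩ with h' | h' <;>
        simp_all
    have h2 := congrArg Subtype.val (huniq ⟨_, h1⟩ fun e =>
      hz0 (conj_eq_one_iff.1 (congrArg Subtype.val e)))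
    exact mul_inv_eq_iff_eq_mul.1 h2
  have hinv : t * ρ * t = ρ⁻¹ := by
    set z := t * ρ * t * ρ
    have hz : η' z = 1 := by
      simp only [z, map_mul, hη't, hη'ρ]
      rw [std_rel.2.2.1, std_rel.1]
    have h1 : (t * ρ * t) ^ 3 = 1 := by
      have htt : t⁻¹ = t := inv_eq_of_mul_eq_one_left ht
      have h := conj_pow (i := 3) (a := t) (b := ρ)
      rw [htt] at h
      rw [h, hρ3, mul_one, ht]
    have h2 : t * ρ * t = z * ρ⁻¹ := (mul_inv_cancel_right _ _).symm
    rw [h2, ((hcommZ ρ⁻¹ z hz).symm).mul_pow, inv_pow, hρ3, inv_one, mul_one, pow_three,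
      (hker' z hz).1, mul_one] at h1
    rw [h2, h1, one_mul]
  let s : DihedralGroup 3 →* Q := dihHom ρ t hρ3 ht hinv
  have hs : ∀ d, η' (s d) = dStd d := by
    intro d
    cases d with
    | r i => rw [dihHom_r, dStd, dihHom_r, map_pow, hη'ρ]
    | sr i => rw [dihHom_sr, dStd, dihHom_sr, map_mul, map_pow, hη'ρ, hη't]
  let f : QuaternionGroup 2 →* Q := R.subtype.comp e'.symm.toMonoidHom
  let Φ : Model →* Q := SemidirectProduct.lift f s (fun d => by
    refine MonoidHom.ext fun x => ?_
    show ((e'.symm (σQ.symm (dStd d) x) : R) : Q) = s d * (e'.symm x : R) * (s d)⁻¹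
    have h1 : σQ.symm (dStd d) = MulAut.congr e' (c (s d)) := by
      rw [MulEquiv.symm_apply_eq]
      exact (hs d).symm
    rw [h1]
    show ((e'.symm (e' (c (s d) (e'.symm x))) : R) : Q) = _
    rw [MulEquiv.symm_apply_apply]
    rfl)
  have hinj : Function.Injective Φ := by
    rw [injective_iff_map_eq_one]
    rintro ⟨x, d⟩ hxd
    change (e'.symm x : R) * s d = (1 : Q) at hxd
    have hsd : s d ∈ R := by
      rw [eq_inv_of_mul_eq_one_right hxd]
      exact R.inv_mem (e'.symm x : R).2
    have hd : d = 1 := by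
      cases d with
      | r i =>
        have h3 : (s (.r i)) ^ 3 = 1 := by
          rw [dihHom_r, ← pow_mul, mul_comm, pow_mul, hρ3, one_pow]
        have h8 := congrArg Subtype.val (pow_card_eq_one' (G := R) (x := ⟨_, hsd⟩))
        rw [hR8] at h8
        change s (.r i) ^ 8 = 1 at h8
        have hone : s (.r i) = 1 := by
          have h9 : s (.r i) ^ 9 = 1 := by rw [show 9 = 3 * 3 from rfl, pow_mul, h3, one_pow]
          rwa [pow_succ, h8, one_mul] at h9
        have h5 := hs (.r i)
        rw [hone, map_one, dStd, dihHom_r] at h5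
        have h6 : orderOf A0 ∣ i.val := orderOf_dvd_of_pow_eq_one h5.symm
        rw [orderOf_eq_prime hcube std_rel.2.2.2.2.2] at h6
        have h7 : i.val = 0 := Nat.eq_zero_of_dvd_of_lt h6 (ZMod.val_lt i)
        rw [(ZMod.val_eq_zero i).1 h7]
        rfl
      | sr i =>
        exfalso
        have h1 : η (s (.sr i)) ∈ R.map η := mem_map_of_mem _ hsd
        have h2 : Equiv.Perm.sign (η' (s (.sr i))) = 1 := by
          rw [hη', map_mul, map_mul, map_inv, (heven _ h1).1]
          simp
        rw [hs, dStd_sr_odd] at h2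
        exact absurd h2 (by decide)
    subst hd
    rw [map_one, mul_one] at hxd
    have hx : x = 1 := e'.symm.injective (by rw [map_one]; exact Subtype.ext hxd)
    subst hx
    rfl
  refine ⟨MulEquiv.ofBijective Φ (hinj.bijective_of_nat_card_le ?_)⟩
  rw [hQ, SemidirectProduct.card, Nat.card_eq_fintype_card, Nat.card_eq_fintype_card, QuaternionGroup.card,
    DihedralGroup.card]

/-! ### `GL(2, 3)` -/

abbrev M23 := Matrix (Fin 2) (Fin 2) (ZMod 3)

def qMat : QuaternionGroup 2 → M23
  | .a i => (!![0, 1; 2, 0] : M23) ^ i.val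
  | .xa i => !![1, 1; 1, 2] * (!![0, 1; 2, 0] : M23) ^ i.val

set_option maxRecDepth 10000 in
theorem qMat_mul : ∀ x y, qMat (x * y) = qMat x * qMat y := by decide +kernel

theorem qMat_one : qMat 1 = 1 := by decide +kernel

set_option maxRecDepth 10000 in
theorem qMat_inj : ∀ x y, qMat x = qMat y → x = y := by decide +kernel

set_option maxRecDepth 10000 in
theorem qMat_norm : ∀ M : M23, M.det ≠ 0 → ∀ x, ∃ y, M * qMat x = qMat y * M := by decide +kernel

set_option maxRecDepth 10000 in
theorem qMat_cent : ∀ M : M23, M.det ≠ 0 → M * qMat (.a 1) = qMat (.a 1) * M →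
    M * qMat (.xa 0) = qMat (.xa 0) * M → M = 1 ∨ M = 2 := by decide +kernel

theorem qMat_invol : ∀ x, qMat x ≠ !![1, 0; 0, 2] := by decide +kernel

theorem diag_det : (!![1, 0; 0, 2] : M23).det ≠ 0 := by decide +kernel

theorem diag_sq : (!![1, 0; 0, 2] : M23) * !![1, 0; 0, 2] = 1 := by decide +kernel

theorem nonempty_model_gl : Nonempty (Model ≃* GL (Fin 2) (ZMod 3)) := by
  classical
  haveI : Fact (Nat.Prime 3) := ⟨Nat.prime_three⟩
  let q : QuaternionGroup 2 →* M23 := ⟨⟨qMat, qMat_one⟩, qMat_mul⟩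
  let f : QuaternionGroup 2 →* GL (Fin 2) (ZMod 3) := q.toHomUnits
  have hf : ∀ x, ((f x : GL (Fin 2) (ZMod 3)) : M23) = qMat x := fun x => rfl
  have hfi : Function.Injective f := fun x y h => qMat_inj x y (by rw [← hf, h, hf])
  have hdet : ∀ g : GL (Fin 2) (ZMod 3), (g : M23).det ≠ 0 := fun g =>
    ((Matrix.isUnit_iff_isUnit_det _).1 g.isUnit).ne_zero
  haveI : f.range.Normal := by
    refine ⟨?_⟩
    rintro _ ⟨x, rfl⟩ g
    obtain ⟨y, hy⟩ := qMat_norm g (hdet g) x
    have h1 : g * f x = f y * g := Units.ext (by rw [Units.val_mul, Units.val_mul, hf, hf, hy])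
    exact ⟨y, by rw [h1, mul_inv_cancel_right]⟩
  let t : GL (Fin 2) (ZMod 3) := Matrix.GeneralLinearGroup.mkOfDetNeZero !![1, 0; 0, 2] diag_det
  refine nonempty_model_equiv f.range (MonoidHom.ofInjective hfi).symm ?_ ?_ (t := t) ?_ ?_
  · rw [Matrix.card_GL_field]
    simp [Fin.prod_univ_two, ZMod.card]
  · let z : GL (Fin 2) (ZMod 3) := f (QuaternionGroup.a 2)
    have hz : (centralizer (f.range : Set (GL (Fin 2) (ZMod 3)))) = zpowers z := by
      refine le_antisymm (fun g hg => ?_) (zpowers_le.2 ?_)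
      · have e1 := congrArg Units.val (mem_centralizer_iff.1 hg (f (.a 1)) ⟨_, rfl⟩)
        have e2 := congrArg Units.val (mem_centralizer_iff.1 hg (f (.xa 0)) ⟨_, rfl⟩)
        rw [Units.val_mul, Units.val_mul, hf] at e1 e2
        rcases qMat_cent g (hdet g) e1.symm e2.symm with h | h
        · rw [show g = 1 from Units.ext h]; exact one_mem _
        · rw [show g = z from Units.ext (h.trans (by rw [hf]; decide +kernel))]
          exact mem_zpowers z
      · rw [mem_centralizer_iff]
        rintro _ ⟨x, rfl⟩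
        rw [← map_mul, ← map_mul]
        congr 1
        revert x
        decide +kernel
    rw [hz, Nat.card_zpowers, orderOf_injective f hfi, QuaternionGroup.orderOf_a]
    decide +kernel
  · exact Units.ext diag_sq
  · rintro ⟨x, hx⟩
    exact qMat_invol x (by rw [← hf, hx]; rfl)

end CfsgLib.SylowTwoMeet
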