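import Mathlib
import Cfsg.Prelude.Def_CaseTheorems
import Cfsg.Agent.InvChar.UniqueInvolution
import Cfsg.Agent.Solvable.Fitting
import Cfsg.Agent.Zassenhaus.ComplementType
import Cfsg.Agent.SylowTwoMeet.Recognition

/-!
Solvable groups in which distinct Sylow 2-subgroups meet in groups of 2-rank at most one.
-/

set_option autoImplicit false
set_option linter.style.haveILetI false

namespace CfsgLib.SylowTwoMeet

open Subgroup

universe u

theorem unique_involution {R : Type u} [Group R] [Finite R] (hR : IsPGroup 2 R)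
    (h1 : ∀ a b : R, a * a = 1 → b * b = 1 → a * b = b * a → a = 1 ∨ b = 1 ∨ a = b) :
    ∀ x y : R, orderOf x = 2 → orderOf y = 2 → x = y := by
  haveI : Fact (Nat.Prime 2) := ⟨Nat.prime_two⟩
  intro x y hx hy
  have hsq : ∀ w : R, orderOf w = 2 → w * w = 1 ∧ w ≠ 1 := fun w hw =>
    ⟨by rw [← pow_two, ← hw, pow_orderOf_eq_one], fun e => by rw [e, orderOf_one] at hw; omega⟩
  haveI : Nontrivial R := ⟨x, 1, (hsq x hx).2⟩
  haveI := hR.center_nontrivial
  obtain ⟨z, hz⟩ := exists_prime_orderOf_dvd_card' (G := center R) 2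
    (((hR.to_subgroup _).card_eq_or_dvd).resolve_left Finite.one_lt_card.ne')
  have hzo : orderOf (z : R) = 2 := by rw [Subgroup.orderOf_coe, hz]
  have key : ∀ w : R, orderOf w = 2 → w = z := by
    intro w hw
    rcases h1 z w (hsq _ hzo).1 (hsq w hw).1 (mem_center_iff.1 z.2 w).symm with h | h | h
    · exact absurd h (hsq _ hzo).2
    · exact absurd h (hsq w hw).2
    · exact h.symm
  rw [key x hx, key y hy]

theorem quat_not_comm : QuaternionGroup.a 1 * QuaternionGroup.xa 0 ≠
    (QuaternionGroup.xa 0 * QuaternionGroup.a 1 : QuaternionGroup 2) := by decide +kernel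

variable {G : Type u} [Group G] [Finite G]

theorem le_sylow {R : Subgroup G} [R.Normal] (hR : IsPGroup 2 R) (P : Sylow 2 G) :
    R ≤ (P : Subgroup G) := by
  have h := P.3 (hR.to_sup_of_normal_left P.2) le_sup_right
  rw [← h]
  exact le_sup_left

/-- Distinct Sylow subgroups of the quotient by an odd normal subgroup give the rank condition
on the 2-core of the quotient. -/
theorem rank_core (O : Subgroup G) [O.Normal] (hO : Odd (Nat.card O))
    (hI : ∀ S T : Sylow 2 G, S ≠ T → Cfsg.PRankLE 2 1 ↥((S : Subgroup G) ⊓ (T : Subgroup G)))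
    (hns : ¬ ∃ P : Sylow 2 (G ⧸ O), (P : Subgroup (G ⧸ O)).Normal)
    (R : Subgroup (G ⧸ O)) [R.Normal] (hR : IsPGroup 2 R) :
    ∀ a b : R, a * a = 1 → b * b = 1 → a * b = b * a → a = 1 ∨ b = 1 ∨ a = b := by
  classical
  haveI : Fact (Nat.Prime 2) := ⟨Nat.prime_two⟩
  set π := QuotientGroup.mk' O
  set K := R.comap π
  haveI hKn : K.Normal := Normal.comap inferInstance π
  obtain ⟨R1⟩ : Nonempty (Sylow 2 K) := inferInstance
  set R0 : Subgroup G := (R1 : Subgroup K).map K.subtype with hR0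
  have hN : normalizer (R0 : Set G) ⊔ K = ⊤ := Sylow.normalizer_sup_eq_top R1
  have hR0K : R0 ≤ K := map_subtype_le _
  -- `R0` is a 2-group mapped onto `R`
  have hR0p : IsPGroup 2 R0 := R1.2.map _
  have hR0O : ∀ x ∈ R0, x ∈ O → x = 1 := by
    intro x hx hxO
    obtain ⟨k, hk⟩ := hR0p ⟨x, hx⟩
    have hk' : x ^ 2 ^ k = 1 := by simpa using congrArg Subtype.val hk
    have h2 : orderOf x ∣ Nat.card O := by
      rw [← orderOf_mk x hxO]; exact orderOf_dvd_natCard _
    exact orderOf_eq_one_iff.1 (Nat.eq_one_of_dvd_coprimes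
      ((Nat.coprime_two_left.2 hO).pow_left k) (orderOf_dvd_of_pow_eq_one hk') h2)
  have honto : ∀ r ∈ R, ∃ x ∈ R0, π x = r := by
    have hsurj : Function.Surjective (π.subgroupComap R) :=
      MonoidHom.subgroupComap_surjective_of_surjective π R (QuotientGroup.mk'_surjective O)
    set R' : Sylow 2 R := R1.mapSurjective hsurj
    have htop : (R' : Subgroup R) = ⊤ :=
      (R'.3 (hR.to_subgroup ⊤) le_top).symm
    intro r hr
    have : (⟨r, hr⟩ : R) ∈ (R' : Subgroup R) := htop ▸ mem_top _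
    rw [Sylow.coe_mapSurjective] at this
    obtain ⟨⟨x, hxK⟩, hx, he⟩ := this
    exact ⟨x, ⟨⟨x, hxK⟩, hx, rfl⟩, congrArg Subtype.val he⟩
  -- a Sylow subgroup of the normaliser is one of `G`
  set N := normalizer (R0 : Set G)
  have hNO : N ⊔ O = ⊤ := by
    refine top_unique ?_
    rw [← hN]
    refine sup_le le_sup_left fun k hk => ?_
    obtain ⟨x, hx, hxr⟩ := honto (π k) hk
    have hxO : x⁻¹ * k ∈ O := by
      rw [← QuotientGroup.ker_mk' O, MonoidHom.mem_ker, map_mul, map_inv, hxr, inv_mul_cancel]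
    simpa using mul_mem (mem_sup_left (le_normalizer (H := R0) hx)) (mem_sup_right (S := N) hxO)
  obtain ⟨P1⟩ : Nonempty (Sylow 2 N) := inferInstance
  obtain ⟨P, hP⟩ := (P1.2.map N.subtype).exists_le_sylow
  have hNodd : ¬ 2 ∣ N.index := by
    have h1 : N.index ∣ Nat.card O := by
      have h2 := relIndex_sup_left (H := N) (K := O)
      rw [sup_comm, hNO, relIndex_top_right] at h2
      have h3 := N.card_mul_index
      have h4 := O.card_mul_index
      have h5 := (O.subgroupOf N).card_mul_index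
      change Nat.card (O.subgroupOf N) * O.relIndex N = Nat.card N at h5
      rw [h2, ← h3, ← h5] at h4
      refine ⟨Nat.card (O.subgroupOf N), Nat.eq_of_mul_eq_mul_right
        (Nat.pos_of_ne_zero (h2 ▸ O.index_ne_zero_of_finite)) ?_⟩
      rw [h4]; ring
    exact fun h => Nat.not_even_iff_odd.2 hO (even_iff_two_dvd.2 (h.trans h1))
  have hPeq : (P1 : Subgroup N).map N.subtype = P := by
    refine eq_of_le_of_card_ge hP ?_
    rw [card_map_of_injective N.subtype_injective, P.card_eq_multiplicity, P1.card_eq_multiplicity]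
    refine Nat.pow_le_pow_right (by norm_num) (le_of_eq ?_)
    rw [← N.card_mul_index, Nat.factorization_mul Nat.card_pos.ne' N.index_ne_zero_of_finite,
      Finsupp.add_apply, Nat.factorization_eq_zero_of_not_dvd hNodd, add_zero]
  have hR0P : R0 ≤ P := by
    rw [← hPeq]
    have h1 : R0.subgroupOf N ≤ P1 := by
      have hp : IsPGroup 2 (R0.subgroupOf N) :=
        hR0p.comap_of_injective N.subtype N.subtype_injective
      obtain ⟨P2, hP2⟩ := hp.exists_le_sylow
      obtain ⟨n, rfl⟩ := MulAction.exists_smul_eq N P2 P1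
      intro x hx
      rw [Sylow.smul_def, Sylow.pointwise_smul_def]
      refine ⟨n⁻¹ * x * n, hP2 ?_, ?_⟩
      · have hn : (R0.subgroupOf N).Normal := inferInstance
        simpa using hn.conj_mem x hx n⁻¹
      · show n * (n⁻¹ * x * n) * n⁻¹ = x
        group
    intro x hx
    exact ⟨⟨x, le_normalizer (H := R0) hx⟩, h1 hx, rfl⟩
  -- a conjugate with different image
  obtain ⟨n, hn, hne⟩ : ∃ n ∈ N, MulAut.conj n • P ≠ P := by
    by_contra hall
    push Not at hall
    refine hns ⟨P.mapSurjective (QuotientGroup.mk'_surjective O), ⟨fun y hy g => ?_⟩⟩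
    rw [Sylow.coe_mapSurjective] at hy ⊢
    obtain ⟨x, hx, rfl⟩ := hy
    obtain ⟨g, rfl⟩ := QuotientGroup.mk'_surjective O g
    obtain ⟨n, hn, o, ho, rfl⟩ : ∃ n ∈ N, ∃ o ∈ O, n * o = g := by
      have hg : g ∈ ((N ⊔ O : Subgroup G) : Set G) := by rw [hNO]; trivial
      rw [Subgroup.mul_normal] at hg
      exact hg
    refine ⟨n * x * n⁻¹, ?_, ?_⟩
    · have h := hall n hn
      rw [← h, Sylow.pointwise_smul_def]
      exact ⟨x, hx, rfl⟩
    · have ho' : QuotientGroup.mk' O o = 1 := (QuotientGroup.eq_one_iff o).2 ho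
      rw [map_mul, map_mul, map_mul (QuotientGroup.mk' O) n o, map_inv, ho', mul_one]
  set T := MulAut.conj n • P
  have hR0T : R0 ≤ T := by
    intro x hx
    rw [Sylow.pointwise_smul_def]
    refine ⟨n⁻¹ * x * n, hR0P ?_, ?_⟩
    · have h2 := (mem_normalizer_iff.1 (N.inv_mem hn) x).1 hx
      rwa [inv_inv] at h2
    · show n * (n⁻¹ * x * n) * n⁻¹ = x
      group
  intro a b ha hb hab
  obtain ⟨x, hx, hxa⟩ := honto a a.2
  obtain ⟨y, hy, hyb⟩ := honto b b.2
  have hinj : ∀ u v : G, u ∈ R0 → v ∈ R0 → π u = π v → u = v := fun u v hu hv e => by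
    refine eq_of_mul_inv_eq_one (hR0O _ (R0.mul_mem hu (R0.inv_mem hv)) ?_)
    rw [← QuotientGroup.ker_mk' O, MonoidHom.mem_ker, map_mul, map_inv, e, mul_inv_cancel]
  have hx2 : x * x = 1 := hinj _ _ (R0.mul_mem hx hx) R0.one_mem (by
    rw [map_mul, hxa, map_one]; exact congrArg Subtype.val ha)
  have hy2 : y * y = 1 := hinj _ _ (R0.mul_mem hy hy) R0.one_mem (by
    rw [map_mul, hyb, map_one]; exact congrArg Subtype.val hb)
  have hxy : x * y = y * x := hinj _ _ (R0.mul_mem hx hy) (R0.mul_mem hy hx) (by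
    rw [map_mul, map_mul, hxa, hyb]; exact congrArg Subtype.val hab)
  by_contra hbad
  simp only [not_or] at hbad
  obtain ⟨ha1, hb1, hab1⟩ := hbad
  have hxne : x ≠ 1 := fun e => ha1 (Subtype.ext (by rw [← hxa, e, map_one]; rfl))
  have hyne : y ≠ 1 := fun e => hb1 (Subtype.ext (by rw [← hyb, e, map_one]; rfl))
  have hne' : x ≠ y := fun e => hab1 (Subtype.ext (by rw [← hxa, e, hyb]))
  have hle : closure ({x, y} : Set G) ≤ (P : Subgroup G) ⊓ (T : Subgroup G) :=
    (closure_le _).2 (by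
      rintro _ (rfl | rfl)
      · exact ⟨hR0P hx, hR0T hx⟩
      · exact ⟨hR0P hy, hR0T hy⟩)
  set A : Subgroup G := closure ({x, y} : Set G)
  haveI : IsMulCommutative A := Subgroup.isMulCommutative_closure (by
    rintro _ (rfl | rfl) _ (rfl | rfl) <;> simp [hxy])
  have hexp : ∀ w ∈ A, w ^ 2 = 1 := by
    intro w hw
    induction hw using Subgroup.closure_induction with
    | mem u hu => rcases hu with rfl | rfl <;> rw [pow_two] <;> assumption
    | one => exact one_pow 2
    | mul u v hu hv iu iv =>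
      rw [Commute.mul_pow (congrArg Subtype.val (mul_comm' (⟨u, hu⟩ : A) ⟨v, hv⟩)) 2, iu, iv, one_mul]
    | inv u hu iu => rw [inv_pow, iu, inv_one]
  have h4 : 3 ≤ Nat.card A := by
    haveI : Fintype A := Fintype.ofFinite A
    rw [Nat.card_eq_fintype_card]
    have hxA : x ∈ A := subset_closure (by simp)
    have hyA : y ∈ A := subset_closure (by simp)
    have h3 : ({1, ⟨x, hxA⟩, ⟨y, hyA⟩} : Finset A).card = 3 := by
      rw [Finset.card_insert_of_notMem, Finset.card_pair]
      · exact fun e => hne' (congrArg Subtype.val e)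
      · simp [Subtype.ext_iff, Ne.symm hxne, Ne.symm hyne]
    exact h3 ▸ Finset.card_le_univ _
  have hle2 := hI P T hne.symm (A.subgroupOf _) ⟨⟨fun u v => (subgroupOfEquivOfLe hle).injective (by
    rw [map_mul, map_mul]; exact mul_comm' _ _)⟩⟩ (fun w hw =>
      Subtype.ext (by rw [SubmonoidClass.coe_pow]; exact hexp _ hw))
  rw [Nat.card_congr (subgroupOfEquivOfLe hle).toEquiv] at hle2
  omega

theorem main (hs : Group.IsSolvable G)
    (hI : ∀ S T : Sylow 2 G, S ≠ T → Cfsg.PRankLE 2 1 ↥((S : Subgroup G) ⊓ (T : Subgroup G))) :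
    (∃ P : Sylow 2 (G ⧸ Cfsg.oddCore G), (P : Subgroup (G ⧸ Cfsg.oddCore G)).Normal) ∨
    Nonempty ((G ⧸ Cfsg.oddCore G) ≃* GL (Fin 2) (ZMod 3)) ∨
    (Nat.card (G ⧸ Cfsg.oddCore G) = 48 ∧ Nat.card ↥(Subgroup.center (G ⧸ Cfsg.oddCore G)) = 2 ∧
      Nonempty ((G ⧸ Cfsg.oddCore G) ⧸ Subgroup.center (G ⧸ Cfsg.oddCore G) ≃* Equiv.Perm (Fin 4)) ∧
      ∀ P : Sylow 2 (G ⧸ Cfsg.oddCore G), Nonempty (↥(P : Subgroup (G ⧸ Cfsg.oddCore G)) ≃* QuaternionGroup 4)) := by
  classical
  haveI : Fact (Nat.Prime 2) := ⟨Nat.prime_two⟩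
  haveI := hs
  refine or_iff_not_imp_left.2 fun hns => ?_
  set O := Cfsg.oddCore G
  haveI hOn : O.Normal := (CfsgLib.Solvable.pPrimeCore_spec 2).1
  have hO : Odd (Nat.card O) :=
    Nat.coprime_two_right.1 (CfsgLib.Solvable.coprime_card_pPrimeCore (p := 2) (G := G))
  let Q := G ⧸ O
  set R := Cfsg.pCore 2 Q with hRdef
  haveI hRn : R.Normal := (CfsgLib.Solvable.pCore_spec 2).1
  have hR : IsPGroup 2 R := CfsgLib.Solvable.isPGroup_pCore 2
  have hCR : centralizer (R : Set Q) ≤ R :=
    CfsgLib.Fitting.centralizer_pCore_le (CfsgLib.Fitting.pPrimeCore_quotient_eq_bot 2)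
  have h2K : ¬ IsPGroup 2 Q := fun h => by
    obtain ⟨P⟩ : Nonempty (Sylow 2 Q) := inferInstance
    refine hns ⟨P, ?_⟩
    rw [← P.3 (h.to_subgroup ⊤) le_top]
    infer_instance
  have hu := unique_involution hR (rank_core O hO hI hns R hR)
  have hck : (MulAut.conjNormal : Q →* MulAut R).ker = centralizer (R : Set Q) := by
    ext x
    rw [MonoidHom.mem_ker, mem_centralizer_iff]
    constructor
    · intro hx y hy
      have h1 := congrArg Subtype.val (MulEquiv.congr_fun hx ⟨y, hy⟩)
      change x * y * x⁻¹ = y at h1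
      exact (mul_inv_eq_iff_eq_mul.1 h1).symm
    · intro hx
      refine MulEquiv.ext fun y => Subtype.ext ?_
      show x * y * x⁻¹ = y
      rw [← hx y y.2, mul_inv_cancel_right]
  set c : Q →* MulAut R := MulAut.conjNormal
  have hnot : ¬ IsPGroup 2 (MulAut R) := fun hA => h2K (by
    obtain ⟨a, ha⟩ := IsPGroup.iff_card.1 (hA.to_subgroup c.range)
    obtain ⟨b, hb⟩ := IsPGroup.iff_card.1 (hR.to_le (hck ▸ hCR))
    refine IsPGroup.of_card (n := b + a) ?_
    rw [← c.ker.card_mul_index, index_ker, ha, hb, pow_add])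
  rcases CfsgLib.UniqueInvol.cyclic_or_quaternion hR
      (fun x y hx hy => hu x y hx hy ▸ mem_zpowers x) with hc | ⟨-, n, hn, ⟨e⟩⟩
  · exact absurd (CfsgLib.ComplType.isPGroup_mulAut_cyclic hR) hnot
  rcases (show n = 1 ∨ 2 ≤ n by omega) with rfl | hn2
  swap
  · exact absurd ((CfsgLib.ComplType.isPGroup_mulAut_quaternion hn2).of_equiv (MulAut.congr e).symm) hnot
  have e : R ≃* QuaternionGroup 2 := e
  have hR8 : Nat.card R = 8 := by
    rw [Nat.card_congr e.toEquiv, Nat.card_eq_fintype_card, QuaternionGroup.card]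
  have hC2 : Nat.card (centralizer (R : Set Q)) = 2 := by
    rw [Nat.card_congr (subgroupOfEquivOfLe hCR).toEquiv.symm]
    have h1 : (centralizer (R : Set Q)).subgroupOf R = center R := by
      ext x
      rw [mem_subgroupOf, mem_centralizer_iff, mem_center_iff]
      exact ⟨fun hx y => Subtype.ext (hx y y.2), fun hx y hy => congrArg Subtype.val (hx ⟨y, hy⟩)⟩
    rw [h1, Nat.card_congr (centerCongr e).toEquiv, Nat.card_eq_fintype_card]
    decide +kernel
  obtain ⟨σ⟩ := Cfsg.Agent.S3742.result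
  let f : Q →* Equiv.Perm (Fin 4) := (σ.toMonoidHom.comp (MulAut.congr e).toMonoidHom).comp c
  have hfk : f.ker = centralizer (R : Set Q) := by
    rw [← hck]
    ext x
    simp only [f, MonoidHom.mem_ker, MonoidHom.coe_comp, Function.comp_apply, MulEquiv.coe_toMonoidHom,
      map_eq_one_iff σ σ.injective, map_eq_one_iff (MulAut.congr e) (MulAut.congr e).injective]
  have hKcard : Nat.card Q = 2 * Nat.card f.range := by
    rw [← f.ker.card_mul_index, index_ker, hfk, hC2]
  obtain ⟨P0⟩ : Nonempty (Sylow 2 Q) := inferInstance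
  have h48 : Nat.card Q = 48 := by
    have hr : Nat.card f.range ∣ 24 := by
      have := card_subgroup_dvd_card f.range
      rwa [Nat.card_perm, Nat.card_fin] at this
    have h8 : 8 ∣ Nat.card Q := hR8 ▸ card_subgroup_dvd_card R
    have hno24 : Nat.card Q ≠ 24 := by
      intro h24
      refine hns ⟨P0, ?_⟩
      have hP8 : Nat.card P0 = 8 := by
        rw [P0.card_eq_multiplicity, h24]
        decide +kernel
      have hle : R ≤ P0 := le_sylow hR P0
      rw [← eq_of_le_of_card_ge hle (by rw [hP8, hR8])]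
      exact hRn
    have h3 : Nat.card f.range ≤ 24 := Nat.le_of_dvd (by norm_num) hr
    have h0 : 0 < Nat.card f.range := Nat.card_pos
    have h4 : Nat.card f.range ≠ 4 := fun h => h2K (IsPGroup.of_card (n := 3) (by rw [hKcard, h]; rfl))
    have h5 : Nat.card f.range ≠ 8 := fun h => h2K (IsPGroup.of_card (n := 4) (by rw [hKcard, h]; rfl))
    rw [hKcard] at h8 hno24 ⊢
    interval_cases Nat.card f.range <;> omega
  have hfs : Function.Surjective f := by
    rw [← MonoidHom.range_eq_top]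
    refine eq_top_of_card_eq _ ?_
    rw [Nat.card_perm, Nat.card_fin]
    show Nat.card f.range = 24
    omega
  have hcen : center Q = centralizer (R : Set Q) := by
    refine le_antisymm (fun x hx => mem_centralizer_iff.2 fun y _ => mem_center_iff.1 hx y) fun x hx => ?_
    haveI : (centralizer (R : Set Q)).Normal := hfk ▸ MonoidHom.normal_ker f
    refine mem_center_iff.2 fun g => ?_
    by_cases hx1 : x = 1
    · subst hx1; simp
    obtain ⟨a, -, huniq⟩ := Nat.card_eq_two_iff' (1 : centralizer (R : Set Q)) |>.1 hC2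
    have h1 := huniq ⟨g * x * g⁻¹, ‹(centralizer (R : Set Q)).Normal›.conj_mem x hx g⟩ fun e =>
      hx1 (conj_eq_one_iff.1 (congrArg Subtype.val e))
    have h2 := huniq ⟨x, hx⟩ fun e => hx1 (congrArg Subtype.val e)
    have h3 := congrArg Subtype.val (h1.trans h2.symm)
    exact mul_inv_eq_iff_eq_mul.1 h3
  by_cases ht : ∃ t : Q, t * t = 1 ∧ t ∉ R
  · left
    obtain ⟨t, ht2, htR⟩ := ht
    obtain ⟨m⟩ := nonempty_model_equiv R e h48 hC2 ht2 htR
    obtain ⟨m'⟩ := nonempty_model_gl
    exact ⟨m.symm.trans m'⟩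
  right
  push Not at ht
  refine ⟨h48, (by rw [hcen]; exact hC2), ⟨(QuotientGroup.quotientMulEquivOfEq (hcen.trans hfk.symm)).trans
    (QuotientGroup.quotientKerEquivOfSurjective f hfs)⟩, fun P => ?_⟩
  have hP16 : Nat.card P = 16 := by
    rw [P.card_eq_multiplicity, h48]
    decide +kernel
  have hPu : ∀ x y : P, orderOf x = 2 → orderOf y = 2 → y ∈ zpowers x := by
    intro x y hx hy
    have hsq : ∀ w : P, orderOf w = 2 → (w : Q) * w = 1 := fun w hw => by
      have h1 : w ^ 2 = 1 := orderOf_dvd_iff_pow_eq_one.1 hw.dvd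
      rw [← pow_two]
      exact congrArg Subtype.val h1
    have hxR := ht x (hsq x hx)
    have hyR := ht y (hsq y hy)
    have h1 := hu ⟨x, hxR⟩ ⟨y, hyR⟩ (by rw [orderOf_mk, Subgroup.orderOf_coe, hx])
      (by rw [orderOf_mk, Subgroup.orderOf_coe, hy])
    rw [show y = x from Subtype.ext (congrArg Subtype.val h1).symm]
    exact mem_zpowers x
  rcases CfsgLib.UniqueInvol.cyclic_or_quaternion P.2 hPu with hc | ⟨-, m, hm, ⟨em⟩⟩
  · exfalso
    haveI := hc
    have hle : R ≤ P := le_sylow hR P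
    haveI : IsCyclic R := isCyclic_of_injective (inclusion hle) (inclusion_injective hle)
    haveI : IsCyclic (QuaternionGroup 2) := e.isCyclic.1 inferInstance
    have h1 := (IsCyclic.commGroup (α := QuaternionGroup 2)).mul_comm (.a 1) (.xa 0)
    exact quat_not_comm h1
  · have h1 := Nat.card_congr em.toEquiv
    haveI : NeZero (2 ^ m) := ⟨pow_ne_zero _ two_ne_zero⟩
    rw [hP16, Nat.card_eq_fintype_card, QuaternionGroup.card] at h1
    have hm2 : m = 2 := by
      have : 2 ^ m = 2 ^ 2 := by omega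
      exact Nat.pow_right_injective (le_refl 2) this
    subst hm2
    exact ⟨em⟩

end CfsgLib.SylowTwoMeet
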